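/-
A nonabelian Sylow subgroup acting faithfully in degree less than `2 p`: a central element with two eigenvalues
(namespace `Cfsg.Agent.DegreeBelowTwoP`).

Main results: `exists_central_commutator`, `exists_element`.
-/
import Cfsg.Agent.Lib.HalfDegree.Tools
import Cfsg.Agent.Lib.Char.Integral
import Cfsg.Agent.Lib.Char.Linear
import Cfsg.Agent.Lib.CyclicDefect.Setup
import Mathlib.Analysis.SpecialFunctions.Complex.CircleAddChar

set_option autoImplicit false
set_option linter.unusedSectionVars false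
set_option linter.style.haveILetI false
set_option linter.style.haveILetI false

open scoped ComplexConjugate commutatorElement

namespace Cfsg.Agent.DegreeBelowTwoP

open Cfsg

/-- A nonabelian `p`-group has a central commutator element of order `p`. -/
theorem exists_central_commutator {P : Type*} [Group P] [Finite P] {p : ℕ} [hp : Fact p.Prime] (hP : IsPGroup p P)
    (hna : ¬ ∀ a b : P, a * b = b * a) : ∃ z : P, z ∈ Subgroup.center P ∧ z ∈ commutator P ∧ orderOf z = p := by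
  have hZ : Subgroup.center P ≠ ⊤ := fun h => hna fun a b =>
    (Subgroup.mem_center_iff.mp (h ▸ Subgroup.mem_top a) b).symm
  haveI : Nontrivial (P ⧸ Subgroup.center P) := QuotientGroup.nontrivial_iff.mpr hZ
  haveI := (hP.to_quotient (Subgroup.center P)).center_nontrivial
  obtain ⟨q, hq⟩ := exists_ne (1 : Subgroup.center (P ⧸ Subgroup.center P))
  obtain ⟨a, ha⟩ := QuotientGroup.mk'_surjective (Subgroup.center P) (q : P ⧸ Subgroup.center P)
  have haZ : a ∉ Subgroup.center P := fun h => hq (Subtype.ext (by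
    rw [← ha]; exact (QuotientGroup.eq_one_iff a).mpr h))
  rw [Subgroup.mem_center_iff] at haZ
  push Not at haZ
  obtain ⟨b, hb⟩ := haZ
  have hc : ⁅b, a⁆ ∈ Subgroup.center P := by
    rw [← QuotientGroup.eq_one_iff]
    show QuotientGroup.mk' (Subgroup.center P) ⁅b, a⁆ = 1
    rw [map_commutatorElement, commutatorElement_eq_one_iff_mul_comm, ha]
    exact Subgroup.mem_center_iff.mp q.2 _
  have hc1 : ⁅b, a⁆ ≠ 1 := fun h => hb (commutatorElement_eq_one_iff_mul_comm.mp h)
  have hd : p ∣ orderOf ⁅b, a⁆ := by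
    obtain ⟨k, hk⟩ := IsPGroup.iff_orderOf.mp hP ⁅b, a⁆
    rw [hk]
    exact dvd_pow_self p fun h0 => hc1 (orderOf_eq_one_iff.mp (by rw [hk, h0, pow_zero]))
  refine ⟨⁅b, a⁆ ^ (orderOf ⁅b, a⁆ / p), pow_mem hc _, pow_mem ?_ _, ?_⟩
  · rw [commutator_def]; exact Subgroup.commutator_mem_commutator (Subgroup.mem_top b) (Subgroup.mem_top a)
  · rw [orderOf_pow_of_dvd (Nat.div_pos (Nat.le_of_dvd (orderOf_pos _) hd) hp.out.pos).ne' (Nat.div_dvd_of_dvd hd),
      Nat.div_div_self hd (orderOf_pos _).ne']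

/-- An element of order `p` with eigenvalues `1` and a primitive root, the latter of multiplicity `p`. -/
theorem exists_element {G : Type*} [Group G] [Finite G] {χ : G → ℂ} (hχ : IsCharacter G χ)
    (hfaith : ∀ g : G, χ g = χ 1 → g = 1) {n : ℕ} (hn : χ 1 = n) {p : ℕ} [hp : Fact p.Prime] (hn2 : n < 2 * p)
    (P : Sylow p G) (hna : ¬ ∀ a b : (P : Subgroup G), a * b = b * a) :
    p ≤ n ∧ ∃ w : G, orderOf w = p ∧
      ∀ i : ZMod p, χ (w ^ i.val) = (p : ℂ) * ZMod.stdAddChar i + ((n - p : ℕ) : ℂ) := by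
  classical
  have := Fintype.ofFinite (P : Subgroup G)
  have := Fintype.ofFinite (IrrCharacter (P : Subgroup G))
  obtain ⟨m, hm, -⟩ := Char.IsCharacter.decompose (Char.IsCharacter.comp_hom hχ (P : Subgroup G).subtype)
  have hval : ∀ a : (P : Subgroup G), χ (a : G) = ∑ θ : IrrCharacter (P : Subgroup G), (m θ : ℂ) * (θ : ↥(P : Subgroup G) → ℂ) a :=
    fun a => by simpa [Finset.sum_apply] using congrFun hm a
  have hdeg : n = ∑ θ : IrrCharacter (P : Subgroup G), m θ * charDegree (θ : ↥(P : Subgroup G) → ℂ) := by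
    apply Nat.cast_injective (R := ℂ)
    push_cast
    rw [← hn, ← OneMemClass.coe_one (P : Subgroup G), hval]
    exact Finset.sum_congr rfl fun θ _ => by rw [Blocks.charDegree_cast]
  have hpk : ∀ θ : IrrCharacter (P : Subgroup G), ∃ k, charDegree (θ : ↥(P : Subgroup G) → ℂ) = p ^ k := by
    intro θ
    obtain ⟨d, ρ, hirr, hρ⟩ := θ.2
    haveI := hirr
    have h1 : charDegree (θ : ↥(P : Subgroup G) → ℂ) = d := Nat.cast_injective (R := ℂ) (by
      rw [Blocks.charDegree_cast, ← hρ, Representation.char_one, Module.finrank_fin_fun])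
    obtain ⟨e, he⟩ := IsPGroup.iff_card.mp P.isPGroup'
    obtain ⟨k, -, hk⟩ := (Nat.dvd_prime_pow hp.out).mp (he ▸ Char.degree_dvd_card ρ)
    exact ⟨k, by rw [h1, ← hk, Module.finrank_fin_fun]⟩
  have hlin : ∀ θ : IrrCharacter (P : Subgroup G), charDegree (θ : ↥(P : Subgroup G) → ℂ) = 1 →
      ∀ c ∈ commutator (P : Subgroup G), (θ : ↥(P : Subgroup G) → ℂ) c = 1 := by
    intro θ hθ c hc
    obtain ⟨l, hl⟩ := Char.exists_hom_of_degree_one (Char.IsIrrCharacter.isCharacter θ.2)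
      (by rw [← Blocks.charDegree_cast, hθ, Nat.cast_one])
    have h1 := congrArg Units.val (MonoidHom.mem_ker.mp (Abelianization.commutator_subset_ker l.toHomUnits hc))
    rw [← hl]
    exact h1
  obtain ⟨z, hzc, hzd, hzo⟩ := exists_central_commutator P.isPGroup' hna
  have hz1 : (z : G) ≠ 1 := fun h => by
    rw [show z = 1 from Subtype.ext h, orderOf_one] at hzo
    exact hp.out.one_lt.ne hzo
  obtain ⟨θ, hθ, hθd⟩ : ∃ θ : IrrCharacter (P : Subgroup G), m θ ≠ 0 ∧ charDegree (θ : ↥(P : Subgroup G) → ℂ) ≠ 1 := by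
    by_contra hall
    push Not at hall
    refine hz1 (hfaith _ ?_)
    rw [hval, ← OneMemClass.coe_one (P : Subgroup G), hval]
    refine Finset.sum_congr rfl fun θ _ => ?_
    by_cases h0 : m θ = 0
    · simp [h0]
    · rw [hlin θ (hall θ h0) z hzd, ← Blocks.charDegree_cast, hall θ h0, Nat.cast_one]
  obtain ⟨k, hk⟩ := hpk θ
  have hk1 : 1 ≤ k := Nat.one_le_iff_ne_zero.mpr fun h0 => hθd (by rw [hk, h0, pow_zero])
  have hsplit := hdeg
  rw [← Finset.add_sum_erase _ _ (Finset.mem_univ θ)] at hsplit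
  have hle : m θ * charDegree (θ : ↥(P : Subgroup G) → ℂ) ≤ n := by omega
  have hk' : k = 1 := by
    by_contra hne
    have h1 : p ^ 2 ≤ charDegree (θ : ↥(P : Subgroup G) → ℂ) := hk ▸ Nat.pow_le_pow_right hp.out.pos (by omega)
    nlinarith [Nat.le_mul_of_pos_left (charDegree (θ : ↥(P : Subgroup G) → ℂ)) (Nat.pos_of_ne_zero hθ), hp.out.two_le]
  rw [hk', pow_one] at hk
  have hm1 : m θ = 1 := by
    by_contra hne
    have : 2 * p ≤ m θ * p := Nat.mul_le_mul_right p (by omega)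
    rw [hk] at hle
    omega
  rw [hm1, hk, one_mul] at hsplit
  obtain ⟨ω, hω, -⟩ := HalfDegree.exists_central θ
  set zc : Subgroup.center (P : Subgroup G) := ⟨z, hzc⟩
  have hother : ∀ (φ : IrrCharacter (P : Subgroup G)) (i : ℕ), φ ≠ θ →
      (m φ : ℂ) * (φ : ↥(P : Subgroup G) → ℂ) (z ^ i) = ((m φ * charDegree (φ : ↥(P : Subgroup G) → ℂ) : ℕ) : ℂ) := by
    intro φ i hne
    by_cases h0 : m φ = 0
    · simp [h0]
    obtain ⟨j, hj⟩ := hpk φ
    have hj0 : j = 0 := by
      by_contra hj0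
      have h1 : p ≤ charDegree (φ : ↥(P : Subgroup G) → ℂ) := hj ▸ Nat.le_self_pow hj0 p
      have h2 := Finset.single_le_sum (f := fun ψ => m ψ * charDegree (ψ : ↥(P : Subgroup G) → ℂ))
        (fun _ _ => Nat.zero_le _) (Finset.mem_erase.mpr ⟨hne, Finset.mem_univ φ⟩)
      have h3 : p ≤ m φ * charDegree (φ : ↥(P : Subgroup G) → ℂ) :=
        h1.trans (Nat.le_mul_of_pos_left _ (Nat.pos_of_ne_zero h0))
      have h4 : m φ * charDegree (φ : ↥(P : Subgroup G) → ℂ) ≤ _ := h2
      omega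
    rw [hj0, pow_zero] at hj
    rw [hlin φ hj _ (pow_mem hzd i), hj, mul_one, mul_one]
  have hχz : ∀ i : ℕ, χ ((z : G) ^ i) = (p : ℂ) * ω zc ^ i + ((n - p : ℕ) : ℂ) := by
    intro i
    rw [← SubmonoidClass.coe_pow, hval, ← Finset.add_sum_erase _ _ (Finset.mem_univ θ), hm1, Nat.cast_one, one_mul,
      Finset.sum_congr rfl (fun φ hφ => hother φ i (Finset.ne_of_mem_erase hφ)), ← Nat.cast_sum]
    congr 1
    · rw [← mul_one (z ^ i), show z ^ i = ((zc ^ i : Subgroup.center (P : Subgroup G)) : (P : Subgroup G)) from rfl,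
        hω, map_pow, ← Blocks.charDegree_cast, hk, mul_comm]
    · rw [show n - p = ∑ φ ∈ Finset.univ.erase θ, m φ * charDegree (φ : ↥(P : Subgroup G) → ℂ) by omega]
  have hωp : ω zc ^ p = 1 := by
    rw [← map_pow, show zc ^ p = 1 from Subtype.ext (by
      rw [SubmonoidClass.coe_pow]; exact orderOf_dvd_iff_pow_eq_one.mp hzo.dvd), map_one]
  have hprim : IsPrimitiveRoot (ZMod.stdAddChar (1 : ZMod p) : ℂ) p := by
    refine (IsPrimitiveRoot.iff_def _ _).mpr ⟨?_, fun l hl => ?_⟩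
    · rw [← AddChar.map_nsmul_eq_pow, nsmul_one, ZMod.natCast_self, AddChar.map_zero_eq_one]
    · rw [← AddChar.map_nsmul_eq_pow, nsmul_one] at hl
      exact (ZMod.natCast_eq_zero_iff _ _).mp (ZMod.injective_stdAddChar (hl.trans (AddChar.map_zero_eq_one _).symm))
  obtain ⟨a, -, ha⟩ := hprim.eq_pow_of_pow_eq_one hωp
  rw [← AddChar.map_nsmul_eq_pow, nsmul_one] at ha
  have ha0 : (a : ZMod p) ≠ 0 := fun h0 => hz1 (hfaith _ (by
    have h1 := hχz 1
    rw [pow_one, pow_one, ← ha, h0, AddChar.map_zero_eq_one, mul_one, ← Nat.cast_add,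
      show p + (n - p) = n by omega] at h1
    rw [h1, hn]))
  set t := ((a : ZMod p)⁻¹).val with ht
  have hzoG : orderOf (z : G) = p := by rw [Subgroup.orderOf_coe, hzo]
  refine ⟨by omega, (z : G) ^ t, ?_, fun i => ?_⟩
  · rw [Nat.Coprime.orderOf_pow, hzoG]
    rw [hzoG]
    refine hp.out.coprime_iff_not_dvd.mpr fun h => ?_
    exact inv_ne_zero ha0 ((ZMod.val_eq_zero _).mp (Nat.eq_zero_of_dvd_of_lt h (ZMod.val_lt _)))
  · rw [← pow_mul, hχz, pow_mul, ← ha, ← AddChar.map_nsmul_eq_pow, ← AddChar.map_nsmul_eq_pow, ht, nsmul_eq_mul,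
      nsmul_eq_mul, ZMod.natCast_zmod_val, ZMod.natCast_zmod_val, inv_mul_cancel₀ ha0, mul_one]

end Cfsg.Agent.DegreeBelowTwoP
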