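/-
An element with eigenvalues `1` and a primitive root of order `p ≥ 7` generates an abelian normal subgroup, and the
group is monomial over it (namespace `Cfsg.Agent.DegreeBelowTwoP`).

Main results: `closure_abelian`, `index_pCore_factorization`.
-/
import Cfsg.Agent.Lib.DegreeBelowTwoP.Element
import Cfsg.Agent.Lib.CofactorBound.Arc
import Cfsg.Agent.Lib.CliffordChar.Basic
import Cfsg.Agent.Lib.CharApp.Schur
import Cfsg.Agent.Lib.Char.Eigen
import Cfsg.Prelude.Def_Solvable
import Mathlib.Data.Nat.Multiplicity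

set_option autoImplicit false
set_option linter.unusedSectionVars false
set_option linter.style.haveILetI false

open scoped ComplexConjugate

namespace Cfsg.Agent.DegreeBelowTwoP

open Cfsg Cfsg.Agent.Blichfeldt

variable {G : Type*} [Group G] [Finite G]

theorem norm_std_sub_one_lt {p : ℕ} [hp : Fact p.Prime] (h7 : 7 ≤ p) :
    ‖(ZMod.stdAddChar (1 : ZMod p) : ℂ) - 1‖ < 1 := by
  have hpR : (0 : ℝ) < p := Nat.cast_pos.mpr hp.out.pos
  have h7R : (7 : ℝ) ≤ p := by exact_mod_cast h7
  rw [show (1 : ZMod p) = ((1 : ℤ) : ZMod p) by norm_num, ZMod.stdAddChar_coe,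
    show (2 : ℂ) * Real.pi * Complex.I * ((1 : ℤ) : ℂ) / (p : ℂ) = Complex.I * ((2 * Real.pi / p : ℝ) : ℂ) by
      push_cast; ring, Complex.norm_exp_I_mul_ofReal_sub_one, Real.norm_eq_abs, abs_mul, abs_two]
  have h1 : 0 < 2 * Real.pi / p / 2 := by positivity
  have h2 : 2 * Real.pi / p / 2 < Real.pi / 6 := by
    rw [show 2 * Real.pi / p / 2 = Real.pi / p by ring]
    exact div_lt_div_of_pos_left Real.pi_pos (by norm_num) (by linarith)
  have h3 := Real.sin_lt_sin_of_lt_of_le_pi_div_two (by linarith [Real.pi_pos]) (by linarith [Real.pi_pos]) h2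
  rw [Real.sin_pi_div_six] at h3
  have h4 : 0 ≤ Real.sin (2 * Real.pi / p / 2) :=
    Real.sin_nonneg_of_nonneg_of_le_pi h1.le (by linarith [Real.pi_pos])
  rw [abs_of_nonneg h4]
  linarith

/-- An element with two eigenvalues closer than one commutes with all its conjugates. -/
theorem commute_conj {V : Type*} [AddCommGroup V] [Module ℂ V] (ρ : Representation ℂ G V) {E : Type*}
    [NormedAddCommGroup E] [InnerProductSpace ℂ E] [FiniteDimensional ℂ E] (σ : G →* (E ≃ₗᵢ[ℂ] E))
    (hσinj : Function.Injective σ) (e : V ≃ₗ[ℂ] E) (hσ : ∀ g v, σ g (e v) = e (ρ g v)) {ι : Type*} [Fintype ι]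
    (bs : Module.Basis ι ℂ V) (lam : ι → ℂ) {w : G} (hwb : ∀ k, ρ w (bs k) = lam k • bs k) {a b : ℂ}
    (hab : ∀ k, lam k = a ∨ lam k = b) (ha : ‖a‖ = 1) (hb : ‖b‖ = 1) (hlt : ‖a - b‖ < 1) (g : G) :
    g * w * g⁻¹ * w = w * (g * w * g⁻¹) := by
  classical
  have hev : ∀ k, σ w (e (bs k)) = lam k • e (bs k) := fun k => by rw [hσ, hwb, map_smul]
  obtain ⟨t, L, -, -, -, hvec, hL⟩ := Blichfeldt.exists_eigen_functions σ (Subgroup.zpowers w)
    (fun x hx y hy => Subgroup.mem_zpowers_iff.mp hx |>.elim fun i hi => Subgroup.mem_zpowers_iff.mp hy |>.elim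
      fun i' hi' => by rw [← hi, ← hi', ← zpow_add, ← zpow_add, add_comm]) ⊤ (fun _ _ _ _ => Submodule.mem_top)
  have hbound : ∀ c, (c = a ∨ c = b) → ∀ v : E, ‖σ w v - c • v‖ ≤ ‖a - b‖ * ‖v‖ := by
    intro c hc v
    refine hL w (Subgroup.mem_zpowers w) c _ (norm_nonneg _) (fun i => ?_) v Submodule.mem_top
    obtain ⟨v', hv'0, hv'⟩ := hvec i
    have h1 := hv' w (Subgroup.mem_zpowers w)
    have h2 : ρ w (e.symm v') = L i w • e.symm v' := e.injective (by
      rw [← hσ, e.apply_symm_apply, map_smul, e.apply_symm_apply, h1])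
    obtain ⟨k, hk⟩ : ∃ k, bs.repr (e.symm v') k ≠ 0 := by
      by_contra h
      push Not at h
      exact hv'0 (by simpa using bs.repr.map_eq_zero_iff.mp (Finsupp.ext h))
    have h3 : ∀ x, bs.repr (ρ w x) k = lam k * bs.repr x k := by
      have h4 : (bs.coord k).comp (ρ w) = lam k • bs.coord k := bs.ext fun k' => by
        rw [LinearMap.comp_apply, hwb, map_smul, LinearMap.smul_apply, Module.Basis.coord_apply,
          Module.Basis.repr_self, Finsupp.single_apply]
        split_ifs with h5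
        · rw [h5]
        · simp
      exact fun x => LinearMap.congr_fun h4 x
    have h4 := h3 (e.symm v')
    rw [h2, map_smul, Finsupp.smul_apply, smul_eq_mul] at h4
    rw [mul_right_cancel₀ hk h4]
    rcases hc with rfl | rfl <;> rcases hab k with h5 | h5 <;> rw [h5] <;>
      simp [norm_sub_rev]
  apply hσinj
  apply LinearIsometryEquiv.ext
  intro v
  have hlin : (op σ (g * w * g⁻¹)).comp (op σ w) = (op σ w).comp (op σ (g * w * g⁻¹)) := by
    refine (bs.map e).ext fun k => ?_
    rw [Module.Basis.map_apply, LinearMap.comp_apply, LinearMap.comp_apply, op_apply, op_apply, op_apply, hev,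
      map_smul]
    have hmem : e (bs k) ∈ CofactorBound.eig σ w (lam k) := (CofactorBound.mem_eig σ).mpr (hev k)
    have hn : ‖lam k‖ = 1 := by rcases hab k with h5 | h5 <;> rw [h5] <;> assumption
    have h1 := CofactorBound.conj_preserves_eigenspace σ hn (norm_nonneg (a - b)) hlt
      (hbound (lam k) (hab k)) g hmem
    rw [op_apply, (CofactorBound.mem_eig σ).mp h1]
  rw [apply_mul, apply_mul σ w (g * w * g⁻¹)]
  exact LinearMap.congr_fun hlin v

set_option maxHeartbeats 800000 in
open scoped Classical in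
/-- The `p`-part of the index of `O_p(G)`. -/
theorem index_pCore_factorization {χ : IrrCharacter G} (hfaith : ∀ g : G, (χ : G → ℂ) g = (χ : G → ℂ) 1 → g = 1)
    {n : ℕ} (hn : (χ : G → ℂ) 1 = n) {p : ℕ} [hp : Fact p.Prime] (h7 : 7 ≤ p) (hn2 : n < 2 * p) (hnp : n ≠ p)
    (P : Sylow p G) (hna : ¬ ∀ a b : (P : Subgroup G), a * b = b * a) :
    ¬ p ^ 2 ∣ (Cfsg.pCore p G).index := by
  classical
  have := Fintype.ofFinite G
  obtain ⟨hpn, w, hwo, hw⟩ := exists_element (Char.IsIrrCharacter.isCharacter χ.2) hfaith hn hn2 P hna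
  obtain ⟨n', ρ, hirr, hρ⟩ := χ.2
  haveI := hirr
  obtain rfl : n' = n := by
    rw [← hρ, Representation.char_one, Module.finrank_fin_fun] at hn
    exact_mod_cast hn
  have hinj : Function.Injective ρ := by
    rw [injective_iff_map_eq_one]
    intro g hg
    refine hfaith g ?_
    rw [← hρ]
    simp [Representation.character, hg]
  obtain ⟨bs, μ, hμ, hroot⟩ := Char.exists_eigenbasis ρ w
  have hζp : (ZMod.stdAddChar (1 : ZMod p) : ℂ) ^ p = 1 := by
    rw [← AddChar.map_nsmul_eq_pow, nsmul_one, ZMod.natCast_self, AddChar.map_zero_eq_one]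
  -- the eigenvalues are `1` and `ζ`
  have hsum : ∀ i : ℕ, ∑ k, μ k ^ i = (p : ℂ) * ZMod.stdAddChar (1 : ZMod p) ^ i + ((n' - p : ℕ) : ℂ) := by
    intro i
    rw [← Char.character_pow ρ w bs μ hμ, hρ]
    have h1 := hw (i : ZMod p)
    rw [ZMod.val_natCast, ← pow_eq_pow_mod i (orderOf_dvd_iff_pow_eq_one.mp hwo.dvd)] at h1
    rw [h1, ← AddChar.map_nsmul_eq_pow, nsmul_one]
  have hr : ∀ k, μ k ^ p = 1 := fun k => by
    have := hroot k
    rwa [hwo] at this
  have hab : ∀ k, μ k = 1 ∨ μ k = ZMod.stdAddChar (1 : ZMod p) := by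
    intro k₀
    by_contra hcon
    push Not at hcon
    obtain ⟨hc1, hcz⟩ := hcon
    have hk0 := hr k₀
    have hgeom : ∀ z : ℂ, z ^ p = 1 → ∑ i ∈ Finset.range p, z ^ i = if z = 1 then (p : ℂ) else 0 := by
      intro z hz
      split_ifs with h
      · simp [h]
      · have := geom_sum_mul z p
        rw [hz, sub_self, mul_eq_zero] at this
        exact this.resolve_right (sub_ne_zero.mpr h)
    have hne0 : μ k₀ ≠ 0 := fun h0 => by
      rw [h0, zero_pow hp.out.ne_zero] at hk0; exact zero_ne_one hk0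
    have h1 : ∑ i ∈ Finset.range p, (∑ k, μ k ^ i) * (μ k₀)⁻¹ ^ i = 0 := by
      simp only [hsum, add_mul, mul_assoc, ← mul_pow, Finset.sum_add_distrib, ← Finset.mul_sum]
      rw [hgeom _ (by rw [mul_pow, hζp, inv_pow, hk0, inv_one, mul_one]),
        hgeom _ (by rw [inv_pow, hk0, inv_one]), if_neg (fun h => hcz ?_), if_neg (fun h => hc1 (inv_eq_one.mp h))]
      · ring
      · rw [mul_inv_eq_one₀ hne0] at h; exact h.symm
    simp only [Finset.sum_mul, ← mul_pow] at h1
    rw [Finset.sum_comm] at h1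
    have hg' : ∀ k, ∑ i ∈ Finset.range p, (μ k * (μ k₀)⁻¹) ^ i = ((if μ k = μ k₀ then p else 0 : ℕ) : ℂ) := fun k => by
      rw [hgeom _ (by rw [mul_pow, hr k, inv_pow, hk0, inv_one, mul_one])]
      simp only [mul_inv_eq_one₀ hne0, Nat.cast_ite, Nat.cast_zero]
    simp only [hg', ← Nat.cast_sum, Nat.cast_eq_zero, Finset.sum_eq_zero_iff] at h1
    have := h1 k₀ (Finset.mem_univ _)
    rw [if_pos rfl] at this
    exact hp.out.ne_zero this
  obtain ⟨W, σ, e, hσinj, hσ⟩ := Blichfeldt.exists_unitary_model n' ρ hinj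
  have hcomm : ∀ g : G, g * w * g⁻¹ * w = w * (g * w * g⁻¹) := fun g =>
    commute_conj ρ (E := W) σ hσinj e hσ bs μ hμ (fun k => (hab k).symm) (Complex.norm_eq_one_of_pow_eq_one hζp hp.out.ne_zero)
      norm_one (norm_std_sub_one_lt h7) g
  -- the abelian normal subgroup
  set N := Subgroup.normalClosure ({w} : Set G)
  have hS : ∀ x ∈ Group.conjugatesOfSet ({w} : Set G), ∀ y ∈ Group.conjugatesOfSet ({w} : Set G), x * y = y * x := by
    intro x hx y hy
    obtain ⟨x0, hx0, hx⟩ := Group.mem_conjugatesOfSet_iff.mp hx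
    obtain ⟨y0, hy0, hy⟩ := Group.mem_conjugatesOfSet_iff.mp hy
    rw [Set.mem_singleton_iff] at hx0 hy0
    subst x0 y0
    obtain ⟨c, rfl⟩ := isConj_iff.mp hx
    obtain ⟨d, rfl⟩ := isConj_iff.mp hy
    calc c * w * c⁻¹ * (d * w * d⁻¹) = d * ((d⁻¹ * c * w * (d⁻¹ * c)⁻¹) * w) * d⁻¹ := by group
      _ = d * (w * (d⁻¹ * c * w * (d⁻¹ * c)⁻¹)) * d⁻¹ := by rw [hcomm]
      _ = d * w * d⁻¹ * (c * w * c⁻¹) := by group
  have hNcomm : ∀ a b : N, a * b = b * a := fun a b => (Subgroup.isMulCommutative_closure hS).is_comm.comm a b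
  have := Fintype.ofFinite N
  have := Fintype.ofFinite (IrrCharacter N)
  obtain ⟨m, hm, -⟩ := Char.IsCharacter.decompose
    (Char.IsCharacter.comp_hom (Char.IsIrrCharacter.isCharacter χ.2) N.subtype)
  have hres : ∀ a : N, (χ : G → ℂ) (a : G) = ∑ l : IrrCharacter N, (m l : ℂ) * (l : N → ℂ) a := fun a => by
    simpa [Finset.sum_apply] using congrFun hm a
  have hone : ∀ l : IrrCharacter N, (l : N → ℂ) 1 = 1 := Char.apply_one_eq_one_of_comm hNcomm
  have hmval : ∀ l : IrrCharacter N, classInner (fun a : N => (χ : G → ℂ) a) (l : N → ℂ) = m l := fun l => by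
    rw [show (fun a : N => (χ : G → ℂ) a) = ∑ l : IrrCharacter N, (m l : ℂ) • (l : N → ℂ) from hm,
      Char.classInner_sum_smul (fun l => (m l : ℂ)) Finset.univ l (Finset.mem_univ _)]
  obtain ⟨l₀, hl₀⟩ := CharApp.exists_constituent (π := fun a : N => (χ : G → ℂ) a)
    (Char.IsCharacter.comp_hom (Char.IsIrrCharacter.isCharacter χ.2) N.subtype)
    (by rw [OneMemClass.coe_one]; exact Blocks.irr_one_ne_zero χ)
  have hconst : ∀ l, m l ≠ 0 → m l = m l₀ := by
    intro l hl
    obtain ⟨x, hx⟩ := CliffordChar.constituents_conjugate N χ.2 l₀.2 l.2 hl₀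
      (by rw [hmval]; exact_mod_cast hl)
    have h1 := hmval l
    rw [← hx] at h1
    have h2 := congrArg (fun f => classInner (fun a : N => (χ : G → ℂ) a) f)
      (CliffordChar.restrict_eq N χ.2 l₀.2 hl₀)
    apply Nat.cast_injective (R := ℂ)
    rw [← h1, ← hmval l₀, classInner, classInner]
    congr 1
    refine Fintype.sum_equiv (MulAut.conjNormal x⁻¹ : MulAut N).toEquiv _ _ fun a => ?_
    show (χ : G → ℂ) a * conj (CliffordChar.conjFun N x (l₀ : N → ℂ) a) =
      (χ : G → ℂ) ((MulAut.conjNormal x⁻¹ a : N) : G) * conj ((l₀ : N → ℂ) (MulAut.conjNormal x⁻¹ a))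
    rw [MulAut.conjNormal_apply]
    congr 1
    · exact (Blocks.irr_class χ (a : G) x⁻¹).symm
  set e0 := m l₀ with he0
  have hn' : n' = e0 * (Finset.univ.filter fun l => m l ≠ 0).card := by
    apply Nat.cast_injective (R := ℂ)
    rw [← hn, ← OneMemClass.coe_one N, hres, Nat.cast_mul,
      ← Finset.sum_filter_of_ne (p := fun l => m l ≠ 0) (fun l _ h => fun h0 => h (by rw [h0, Nat.cast_zero, zero_mul])),
      Finset.sum_congr rfl (g := fun _ => (e0 : ℂ)) (fun l hl => by
        rw [hone, mul_one, hconst l (Finset.mem_filter.mp hl).2]), Finset.sum_const, nsmul_eq_mul, mul_comm]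
  have hwN : w ∈ N := Subgroup.subset_normalClosure rfl
  -- multiplicity of `ζ` at `w`
  have hdvd : e0 ∣ p := by
    have hz : ∀ l : IrrCharacter N, (l : N → ℂ) ⟨w, hwN⟩ ^ p = 1 := fun l => by
      obtain ⟨f, hf⟩ := Char.exists_hom_of_degree_one (Char.IsIrrCharacter.isCharacter l.2) (hone l)
      rw [← hf, ← map_pow, show (⟨w, hwN⟩ : N) ^ p = 1 from Subtype.ext (by
        rw [SubmonoidClass.coe_pow]; exact orderOf_dvd_iff_pow_eq_one.mp hwo.dvd), map_one]
    set ζ : ℂ := ZMod.stdAddChar (1 : ZMod p)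
    have hζne : ζ ≠ 1 := fun h => by
      have := ZMod.injective_stdAddChar (h.trans (AddChar.map_zero_eq_one _).symm)
      exact one_ne_zero this
    have hζ0 : ζ ≠ 0 := fun h => by rw [h, zero_pow hp.out.ne_zero] at hζp; exact zero_ne_one hζp
    have hgeom : ∀ z : ℂ, z ^ p = 1 → ∑ i ∈ Finset.range p, z ^ i = if z = 1 then (p : ℂ) else 0 := by
      intro z hz'
      split_ifs with h
      · simp [h]
      · have := geom_sum_mul z p
        rw [hz', sub_self, mul_eq_zero] at this
        exact this.resolve_right (sub_ne_zero.mpr h)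
    have hB : ∀ i : ℕ, (χ : G → ℂ) (w ^ i) = (p : ℂ) * ζ ^ i + ((n' - p : ℕ) : ℂ) := fun i => by
      rw [← hρ, Char.character_pow ρ w bs μ hμ, hsum]
    have h1 : ∑ i ∈ Finset.range p, (χ : G → ℂ) (w ^ i) * ζ⁻¹ ^ i = (p : ℂ) * p := by
      simp only [hB, add_mul, mul_assoc, ← mul_pow, Finset.sum_add_distrib, ← Finset.mul_sum, mul_inv_cancel₀ hζ0]
      rw [hgeom _ (one_pow p), if_pos rfl, hgeom _ (by rw [inv_pow, hζp, inv_one]),
        if_neg (fun h => hζne (inv_eq_one.mp h))]
      ring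
    have h2 : ∀ i : ℕ, (χ : G → ℂ) (w ^ i) = ∑ l : IrrCharacter N, (m l : ℂ) * (l : N → ℂ) ⟨w, hwN⟩ ^ i := fun i => by
      rw [show w ^ i = (((⟨w, hwN⟩ : N) ^ i : N) : G) from rfl, hres]
      refine Finset.sum_congr rfl fun l _ => ?_
      obtain ⟨f, hf⟩ := Char.exists_hom_of_degree_one (Char.IsIrrCharacter.isCharacter l.2) (hone l)
      rw [← hf, map_pow]
    simp only [h2, Finset.sum_mul, mul_assoc, ← mul_pow] at h1
    rw [Finset.sum_comm] at h1
    have h3 : ∀ l : IrrCharacter N, ∑ i ∈ Finset.range p, (m l : ℂ) * ((l : N → ℂ) ⟨w, hwN⟩ * ζ⁻¹) ^ i =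
        ((p * (if (l : N → ℂ) ⟨w, hwN⟩ = ζ then m l else 0) : ℕ) : ℂ) := fun l => by
      rw [← Finset.mul_sum, hgeom _ (by rw [mul_pow, hz, inv_pow, hζp, inv_one, mul_one])]
      simp only [mul_inv_eq_one₀ hζ0]
      split_ifs <;> push_cast <;> ring
    simp only [h3, ← Nat.cast_sum, ← Nat.cast_mul, Nat.cast_inj, ← Finset.mul_sum] at h1
    rw [← Nat.eq_of_mul_eq_mul_left hp.out.pos h1]
    refine Finset.dvd_sum fun l _ => ?_
    split_ifs
    · by_cases h0 : m l = 0
      · rw [h0]; exact dvd_zero _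
      · rw [hconst l h0]
    · exact dvd_zero _
  have he1 : e0 = 1 := by
    rcases (Nat.dvd_prime hp.out).mp hdvd with h | h
    · exact h
    · exfalso
      obtain ⟨c, hc⟩ : p ∣ n' := h ▸ (hn' ▸ Dvd.intro _ rfl)
      rcases Nat.lt_or_ge c 2 with hc2 | hc2
      · interval_cases c <;> omega
      · have := Nat.mul_le_mul_left p hc2; omega
  have hm1 : ∀ l, m l ≤ 1 := fun l => by
    by_cases h0 : m l = 0
    · omega
    · rw [hconst l h0, he1]
  -- the kernel of the action on the constituents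
  set C := Subgroup.centralizer (N : Set G)
  haveI hNn : N.Normal := Subgroup.normalClosure_normal
  have hCab : ∀ a b : C, a * b = b * a := by
    have := Fintype.ofFinite C
    have := Fintype.ofFinite (IrrCharacter C)
    have hNC : N ≤ C := fun a ha => Subgroup.mem_centralizer_iff.mpr fun b hb =>
      congrArg Subtype.val (hNcomm ⟨b, hb⟩ ⟨a, ha⟩)
    obtain ⟨c, hc, -⟩ := Char.IsCharacter.decompose
      (Char.IsCharacter.comp_hom (Char.IsIrrCharacter.isCharacter χ.2) C.subtype)
    have hlinear : ∀ φ : IrrCharacter C, c φ ≠ 0 → (φ : C → ℂ) 1 = 1 := by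
      intro φ hφ
      obtain ⟨ω, hω, hω1⟩ := HalfDegree.exists_central φ
      let inc : N →* Subgroup.center C :=
        { toFun := fun a => ⟨⟨a, hNC a.2⟩, Subgroup.mem_center_iff.mpr fun b => Subtype.ext
            (Subgroup.mem_centralizer_iff.mp b.2 a a.2).symm⟩
          map_one' := rfl
          map_mul' := fun _ _ => rfl }
      let l : IrrCharacter N := ⟨⇑(ω.comp inc), Char.isIrrCharacter_of_hom _⟩
      have hlφ : ∀ a : N, (φ : C → ℂ) (((inc a : Subgroup.center C) : C)) = (φ : C → ℂ) 1 * (l : N → ℂ) a := fun a => by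
        rw [← mul_one ((inc a : Subgroup.center C) : C), hω, mul_comm]; rfl
      have h1 := hmval l
      have h2 : (fun a : N => (χ : G → ℂ) a) =
          ∑ ψ : IrrCharacter C, (c ψ : ℂ) • fun a : N => (ψ : C → ℂ) ((inc a : Subgroup.center C) : C) := by
        funext a
        simpa [Finset.sum_apply, inc] using congrFun hc ⟨a, hNC a.2⟩
      rw [h2, Char.classInner_sum_left] at h1
      choose R hR using fun ψ : IrrCharacter C => Char.IsCharacter.classInner_nat
        (Char.IsCharacter.comp_hom (Char.IsIrrCharacter.isCharacter ψ.2) ((Subgroup.center C).subtype.comp inc))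
        (Char.IsIrrCharacter.isCharacter l.2)
      have hRφ : R φ = charDegree (φ : C → ℂ) := by
        apply Nat.cast_injective (R := ℂ)
        rw [← hR, Blocks.charDegree_cast, show (fun a : N => (φ : C → ℂ) (((Subgroup.center C).subtype.comp inc) a)) =
          (φ : C → ℂ) 1 • (l : N → ℂ) from funext fun a => hlφ a, Char.classInner_smul_left,
          Char.classInner_irr_self l.2, mul_one]
      have h3 : ∑ ψ : IrrCharacter C, c ψ * R ψ = m l := by
        apply Nat.cast_injective (R := ℂ)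
        push_cast
        rw [← h1]
        exact Finset.sum_congr rfl fun ψ _ => by rw [Char.classInner_smul_left, ← hR]; rfl
      have h4 := Finset.single_le_sum (f := fun ψ => c ψ * R ψ) (fun _ _ => Nat.zero_le _) (Finset.mem_univ φ)
      have h5 : c φ * R φ ≤ 1 := (le_trans h4 h3.le).trans (hm1 l)
      rw [hRφ] at h5
      have h6 : 0 < charDegree (φ : C → ℂ) := Nat.pos_of_ne_zero fun h0 => Blocks.irr_one_ne_zero φ (by
        rw [← Blocks.charDegree_cast, h0, Nat.cast_zero])
      have h7 : charDegree (φ : C → ℂ) = 1 :=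
        le_antisymm ((Nat.le_mul_of_pos_left _ (Nat.pos_of_ne_zero hφ)).trans h5) h6
      rw [← Blocks.charDegree_cast, h7, Nat.cast_one]
    intro a b
    have h : (χ : G → ℂ) ((a * b * a⁻¹ * b⁻¹ : C) : G) = (χ : G → ℂ) ((1 : C) : G) := by
      show (fun x : C => (χ : G → ℂ) (C.subtype x)) (a * b * a⁻¹ * b⁻¹) = (fun x : C => (χ : G → ℂ) (C.subtype x)) 1
      rw [hc]
      simp only [Finset.sum_apply, Pi.smul_apply, smul_eq_mul]
      refine Finset.sum_congr rfl fun φ _ => ?_
      by_cases h0 : c φ = 0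
      · simp [h0]
      · obtain ⟨f, hf⟩ := Char.exists_hom_of_degree_one (Char.IsIrrCharacter.isCharacter φ.2) (hlinear φ h0)
        rw [← hf, map_mul, map_mul, map_mul, map_one, mul_right_comm (f a), ← map_mul f a, mul_inv_cancel, map_one,
          one_mul, ← map_mul, mul_inv_cancel, map_one]
    have h' : a * b * a⁻¹ * b⁻¹ = 1 := Subtype.ext (hfaith _ (by simpa using h))
    rwa [mul_inv_eq_one, mul_inv_eq_iff_eq_mul] at h'
  have hidx : C.index ∣ Nat.factorial n' := by
    let Λ := {l : IrrCharacter N // m l ≠ 0}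
    let act : G → Λ → Λ := fun g l => ⟨⟨CliffordChar.conjFun N g (l.1 : N → ℂ),
      CliffordChar.isIrr_conjFun N g l.1.2⟩, by
        intro h0
        have h1 := hmval ⟨CliffordChar.conjFun N g (l.1 : N → ℂ), CliffordChar.isIrr_conjFun N g l.1.2⟩
        rw [h0, Nat.cast_zero] at h1
        refine l.2 ?_
        apply Nat.cast_injective (R := ℂ)
        rw [Nat.cast_zero, ← h1, ← hmval, classInner, classInner]
        congr 1
        refine (Fintype.sum_equiv (MulAut.conjNormal g⁻¹ : MulAut N).toEquiv _ _ fun a => ?_).symm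
        show (χ : G → ℂ) a * conj (CliffordChar.conjFun N g (l.1 : N → ℂ) a) =
          (χ : G → ℂ) ((MulAut.conjNormal g⁻¹ a : N) : G) * conj ((l.1 : N → ℂ) (MulAut.conjNormal g⁻¹ a))
        rw [MulAut.conjNormal_apply]
        congr 1
        exact (Blocks.irr_class χ (a : G) g⁻¹).symm⟩
    have hact1 : ∀ l, act 1 l = l := fun l => Subtype.ext (Subtype.ext (CliffordChar.conjFun_one N _))
    have hactm : ∀ g h l, act (g * h) l = act g (act h l) := fun g h l =>
      Subtype.ext (Subtype.ext (CliffordChar.conjFun_mul N g h _))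
    letI : MulAction G Λ := { smul := act, one_smul := hact1, mul_smul := hactm }
    let hom := MulAction.toPermHom G Λ
    have hker : hom.ker ≤ C := by
      intro g hg
      refine Subgroup.mem_centralizer_iff.mpr fun a ha => ?_
      set c : N := (MulAut.conjNormal g⁻¹ ⟨a, ha⟩) * (⟨a, ha⟩ : N)⁻¹
      have hc1 : c = 1 := by
        refine Subtype.ext (hfaith _ ?_)
        rw [hres, ← OneMemClass.coe_one N, hres]
        refine Finset.sum_congr rfl fun l _ => ?_
        by_cases h0 : m l = 0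
        · simp [h0]
        · have h1 : act g ⟨l, h0⟩ = ⟨l, h0⟩ := DFunLike.congr_fun (MonoidHom.mem_ker.mp hg) ⟨l, h0⟩
          have h2 := congrFun (congrArg (fun z : Λ => (z.1 : N → ℂ)) h1) ⟨a, ha⟩
          obtain ⟨f, hf⟩ := Char.exists_hom_of_degree_one (Char.IsIrrCharacter.isCharacter l.2) (hone l)
          have h3 : f (MulAut.conjNormal g⁻¹ ⟨a, ha⟩) = f ⟨a, ha⟩ := by rw [hf]; exact h2
          rw [← hf, map_mul, h3, ← map_mul, mul_inv_cancel]
      have h4 := congrArg Subtype.val (mul_inv_eq_one.mp hc1)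
      rw [MulAut.conjNormal_apply, inv_inv] at h4
      calc a * g = g * (g⁻¹ * a * g) := by group
        _ = g * a := by rw [h4]
    have h1 : hom.ker.index ∣ Nat.factorial n' := by
      rw [Subgroup.index_ker]
      refine (Subgroup.card_subgroup_dvd_card hom.range).trans ?_
      rw [Nat.card_perm, Nat.card_eq_fintype_card, Fintype.card_subtype, hn', he1, one_mul]
    exact (Subgroup.index_dvd_of_le hker).trans h1
  -- the Sylow subgroup of the abelian normal subgroup
  obtain ⟨R⟩ := (inferInstance : Nonempty (Sylow p C))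
  haveI hRn : (R : Subgroup C).Normal := ⟨fun a ha b => by rw [hCab b a, mul_inv_cancel_right]; exact ha⟩
  haveI hRc : (R : Subgroup C).Characteristic := Sylow.characteristic_of_normal R hRn
  haveI : C.Normal := inferInstance
  have hle : (R : Subgroup C).map C.subtype ≤ Cfsg.pCore p G := le_sSup
    ⟨ConjAct.normal_of_characteristic_of_normal, R.isPGroup'.map _⟩
  intro hd
  have h1 := hd.trans (Subgroup.index_dvd_of_le hle)
  rw [Subgroup.index_map_of_injective _ (Subgroup.subtype_injective C), Subgroup.range_subtype] at h1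
  have h2 := (Nat.Coprime.pow_left 2 (hp.out.coprime_iff_not_dvd.mpr R.not_dvd_index)).dvd_of_dvd_mul_left h1
  have h3 : 2 ≤ (Nat.factorial n').factorization p :=
    (hp.out.pow_dvd_iff_le_factorization (Nat.factorial_ne_zero _)).mp (h2.trans hidx)
  rw [Nat.factorization_factorial (b := 2) hp.out (Nat.log_lt_of_lt_pow (by omega) (by nlinarith))] at h3
  simp only [Finset.sum_Ico_succ_top (le_refl 1), Finset.Ico_self, Finset.sum_empty, zero_add, pow_one] at h3
  have h4 : n' / p < 2 := Nat.div_lt_of_lt_mul (by omega)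
  omega

end Cfsg.Agent.DegreeBelowTwoP
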